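import Mathlib
import Cfsg.Prelude.Def_Transfer
import Cfsg.Agent.Lib.Transfer.NormalPComplement

/-!
# Counting conjugacy classes of `π`-elements

`k_π(G) ≤ k_q(G) |G|_{π \ {q}}`, and `k_q(G)` is at most `(q+1)|P|/(2q)` unless the Sylow `q`-subgroup
`P` is centralized by its normalizer.
-/

set_option autoImplicit false

namespace Cfsg.Agent.PiClasses

universe u

variable {G : Type u} [Group G]

/-- All prime divisors of the order of `x` lie in `π`. -/
def IsPiElt (π : Finset ℕ) (x : G) : Prop := ∀ r : ℕ, r.Prime → r ∣ orderOf x → r ∈ π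

theorem isPiElt_iff_pow {q : ℕ} (hq : q.Prime) [Finite G] (x : G) :
    IsPiElt ({q} : Finset ℕ) x ↔ ∃ k : ℕ, orderOf x = q ^ k := by
  refine ⟨fun h => ?_, fun ⟨k, hk⟩ r hr hd => ?_⟩
  · exact ⟨_, Nat.eq_prime_pow_of_unique_prime_dvd (orderOf_pos x).ne' fun {d} hd hdvd =>
      Finset.mem_singleton.1 (h d hd hdvd)⟩
  · rw [hk] at hd
    exact Finset.mem_singleton.2 ((Nat.prime_dvd_prime_iff_eq hr hq).1 (hr.dvd_of_dvd_pow hd))

/-- The number of classes of `π`-elements. -/
noncomputable def k (π : Finset ℕ) (G : Type u) [Group G] : ℕ :=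
  Nat.card {c : ConjClasses G // ∀ x ∈ c.carrier, IsPiElt π x}

theorem isPiElt_of_isConj {π : Finset ℕ} {x y : G} (h : IsConj x y) (hx : IsPiElt π x) :
    IsPiElt π y := by
  obtain ⟨c, rfl⟩ := isConj_iff.1 h
  intro r hr hd
  exact hx r hr (by
    have he : c * x * c⁻¹ = MulAut.conj c x := rfl
    rwa [he, MulEquiv.orderOf_eq] at hd)

theorem k_eq_one_of_empty [Finite G] : k (∅ : Finset ℕ) G = 1 := by
  refine Nat.card_eq_one_iff_exists.2 ⟨⟨ConjClasses.mk 1, fun x hx => ?_⟩, fun c => ?_⟩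
  · rw [ConjClasses.mem_carrier_iff_mk_eq, ConjClasses.mk_eq_mk_iff_isConj] at hx
    rw [isConj_one_left.1 hx]
    intro r hr hd
    rw [orderOf_one, Nat.dvd_one] at hd
    exact absurd hd hr.ne_one
  · obtain ⟨x, hx⟩ := ConjClasses.mk_surjective c.1
    have h := c.2 x (by rw [ConjClasses.mem_carrier_iff_mk_eq, hx])
    have h1 : orderOf x = 1 := Nat.eq_one_iff_not_exists_prime_dvd.2 fun r hr hd =>
      Finset.notMem_empty r (h r hr hd)
    exact Subtype.ext (by rw [← hx, orderOf_eq_one_iff.1 h1])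

/-- A `π`-element is a commuting product of a `q`-element and a `π \ {q}`-element. -/
theorem exists_decomp [Finite G] {π : Finset ℕ} {q : ℕ} (hq : q.Prime) {x : G}
    (hx : IsPiElt π x) :
    ∃ a b : G, x = a * b ∧ Commute a b ∧ IsPiElt ({q} : Finset ℕ) a ∧ IsPiElt (π.erase q) b := by
  obtain ⟨e, m, hm, hn⟩ := Nat.exists_eq_pow_mul_and_not_dvd (orderOf_pos x).ne' q hq.ne_one
  obtain ⟨s, t, hst⟩ : IsCoprime ((q ^ e : ℕ) : ℤ) (m : ℤ) :=
    Nat.isCoprime_iff_coprime.2 ((hq.coprime_iff_not_dvd.2 hm).pow_left e)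
  have hord : ∀ j : ℤ, ∀ d : ℕ, (orderOf x : ℤ) ∣ j * d → orderOf (x ^ j) ∣ d := by
    intro j d h
    rw [orderOf_dvd_iff_pow_eq_one, ← zpow_natCast, ← zpow_mul, ← orderOf_dvd_iff_zpow_eq_one]
    exact h
  refine ⟨x ^ (t * (m : ℤ)), x ^ (s * ((q ^ e : ℕ) : ℤ)), ?_, (Commute.refl x).zpow_zpow _ _, ?_, ?_⟩
  · rw [← zpow_add, add_comm, hst, zpow_one]
  · intro r hr hd
    have h := hd.trans (hord (t * (m : ℤ)) (q ^ e) ⟨t, by rw [hn]; push_cast; ring⟩)
    exact Finset.mem_singleton.2 ((Nat.prime_dvd_prime_iff_eq hr hq).1 (hr.dvd_of_dvd_pow h))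
  · intro r hr hd
    have h := hd.trans (hord (s * ((q ^ e : ℕ) : ℤ)) m ⟨s, by rw [hn]; push_cast; ring⟩)
    refine Finset.mem_erase.2 ⟨fun e' => hm (e' ▸ h), hx r hr ?_⟩
    rw [hn]; exact h.mul_left _

/-- `k_π(G)` is at most `k_q(G)` times any bound for `k_{π \ {q}}` of the subgroups. -/
theorem k_le_mul [Finite G] {π : Finset ℕ} {q : ℕ} (hq : q.Prime) {B : ℕ}
    (hB : ∀ H : Subgroup G, k (π.erase q) H ≤ B) : k π G ≤ k ({q} : Finset ℕ) G * B := by
  classical
  haveI := Fintype.ofFinite {c : ConjClasses G // ∀ x ∈ c.carrier, IsPiElt ({q} : Finset ℕ) x}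
  let T := (c : {c : ConjClasses G // ∀ x ∈ c.carrier, IsPiElt ({q} : Finset ℕ) x}) ×
    {d : ConjClasses (Subgroup.centralizer ({c.1.out} : Set G)) //
      ∀ x ∈ d.carrier, IsPiElt (π.erase q) x}
  have hT : Nat.card T ≤ k ({q} : Finset ℕ) G * B := by
    rw [Nat.card_sigma, k, Nat.card_eq_fintype_card, ← Finset.card_univ, ← smul_eq_mul,
      ← Finset.sum_const]
    exact Finset.sum_le_sum fun c _ => hB _
  let f : T → ConjClasses G := fun p => ConjClasses.mk (p.1.1.out * (p.2.1.out : G))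
  have hmem : ∀ c : {c : ConjClasses G // ∀ x ∈ c.carrier, IsPiElt π x}, ∃ p : T, f p = c.1 := by
    intro c
    obtain ⟨x, hx⟩ := ConjClasses.mk_surjective c.1
    obtain ⟨a, b, hab, hcomm, ha, hb⟩ :=
      exists_decomp hq (c.2 x (by rw [ConjClasses.mem_carrier_iff_mk_eq, hx]))
    let A : {c : ConjClasses G // ∀ x ∈ c.carrier, IsPiElt ({q} : Finset ℕ) x} :=
      ⟨ConjClasses.mk a, fun y hy => isPiElt_of_isConj
        (ConjClasses.mk_eq_mk_iff_isConj.1 (ConjClasses.mem_carrier_iff_mk_eq.1 hy)).symm ha⟩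
    obtain ⟨g, hg⟩ := isConj_iff.1 (ConjClasses.mk_eq_mk_iff_isConj.1
      (show ConjClasses.mk a = ConjClasses.mk A.1.out from (Quotient.out_eq A.1).symm))
    have hb' : g * b * g⁻¹ ∈ Subgroup.centralizer ({A.1.out} : Set G) := by
      rw [Subgroup.mem_centralizer_singleton_iff, ← hg]
      show Commute (MulAut.conj g b) (MulAut.conj g a)
      exact hcomm.symm.map (MulAut.conj g).toMonoidHom
    have hb2 : IsPiElt (π.erase q) (⟨_, hb'⟩ : Subgroup.centralizer ({A.1.out} : Set G)) := by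
      intro r hr hd
      rw [← Subgroup.orderOf_coe] at hd
      exact hb r hr (by
        have he : g * b * g⁻¹ = MulAut.conj g b := rfl
        rwa [Subgroup.coe_mk, he, MulEquiv.orderOf_eq] at hd)
    let D : {d : ConjClasses (Subgroup.centralizer ({A.1.out} : Set G)) //
        ∀ x ∈ d.carrier, IsPiElt (π.erase q) x} :=
      ⟨ConjClasses.mk ⟨_, hb'⟩, fun y hy => isPiElt_of_isConj
        (ConjClasses.mk_eq_mk_iff_isConj.1 (ConjClasses.mem_carrier_iff_mk_eq.1 hy)).symm hb2⟩
    refine ⟨⟨A, D⟩, ?_⟩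
    obtain ⟨z, hz⟩ := isConj_iff.1 (ConjClasses.mk_eq_mk_iff_isConj.1
      (show ConjClasses.mk (⟨_, hb'⟩ : Subgroup.centralizer ({A.1.out} : Set G)) =
        ConjClasses.mk D.1.out from (Quotient.out_eq D.1).symm))
    show ConjClasses.mk (A.1.out * (D.1.out : G)) = c.1
    rw [← hx, ConjClasses.mk_eq_mk_iff_isConj, ← hz, hab]
    refine (isConj_iff.2 ⟨(z : G) * g, ?_⟩).symm
    have hza : (z : G) * A.1.out = A.1.out * z :=
      Subgroup.mem_centralizer_singleton_iff.1 z.2
    simp only [Subgroup.coe_mul, Subgroup.coe_inv]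
    calc (z : G) * g * (a * b) * ((z : G) * g)⁻¹
        = (z : G) * (g * a * g⁻¹) * (g * b * g⁻¹) * (z : G)⁻¹ := by group
      _ = A.1.out * ((z : G) * (g * b * g⁻¹) * (z : G)⁻¹) := by
          rw [hg, hza]; simp only [mul_assoc]
  choose h hh using hmem
  refine le_trans ?_ hT
  exact Nat.card_le_card_of_injective h fun c d e =>
    Subtype.ext (by rw [← hh c, ← hh d, e])

theorem k_singleton_le [Finite G] {q : ℕ} [Fact q.Prime] :
    k ({q} : Finset ℕ) G ≤ q ^ (Nat.card G).factorization q := by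
  let P : Sylow q G := default
  rw [← P.card_eq_multiplicity]
  have h : ∀ c : {c : ConjClasses G // ∀ x ∈ c.carrier, IsPiElt ({q} : Finset ℕ) x},
      ∃ x : (P : Subgroup G), ConjClasses.mk (x : G) = c.1 := by
    intro c
    obtain ⟨x, hx⟩ := ConjClasses.mk_surjective c.1
    obtain ⟨e, he⟩ := (isPiElt_iff_pow Fact.out x).1 (c.2 x (by rw [ConjClasses.mem_carrier_iff_mk_eq, hx]))
    obtain ⟨Q, hQ⟩ := (IsPGroup.of_card (p := q) (n := e)
      (by rw [Nat.card_zpowers, he]) : IsPGroup q (Subgroup.zpowers x)).exists_le_sylow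
    obtain ⟨g, hg⟩ := MulAction.exists_smul_eq G Q P
    refine ⟨⟨g * x * g⁻¹, ?_⟩, ?_⟩
    · rw [← hg, Sylow.coe_subgroup_smul]
      exact Subgroup.smul_mem_pointwise_smul x (MulAut.conj g) _ (hQ (Subgroup.mem_zpowers x))
    · rw [← hx]
      exact ConjClasses.mk_eq_mk_iff_isConj.2 (isConj_iff.2 ⟨g, rfl⟩).symm
  choose f hf using h
  exact Nat.card_le_card_of_injective f fun c d e => Subtype.ext (by rw [← hf c, ← hf d, e])

theorem k_le_prod : ∀ (π : Finset ℕ), (∀ r ∈ π, r.Prime) → ∀ (G : Type u) [Group G] [Finite G],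
    k π G ≤ π.prod fun r => r ^ (Nat.card G).factorization r := by
  intro π
  induction π using Finset.induction_on with
  | empty => intro _ G _ _; simp [k_eq_one_of_empty]
  | insert q π hqπ ih =>
    intro hπ G _ _
    have hq : q.Prime := hπ q (Finset.mem_insert_self q π)
    haveI : Fact q.Prime := ⟨hq⟩
    rw [Finset.prod_insert hqπ]
    refine (k_le_mul hq fun H => ?_).trans (Nat.mul_le_mul_right _ k_singleton_le)
    rw [Finset.erase_insert hqπ]
    refine (ih (fun r hr => hπ r (Finset.mem_insert_of_mem hr)) H).trans ?_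
    refine Finset.prod_le_prod' fun r hr => Nat.pow_le_pow_right (hπ r (Finset.mem_insert_of_mem hr)).pos ?_
    exact (Nat.factorization_le_iff_dvd Nat.card_pos.ne' Nat.card_pos.ne').2
      H.card_subgroup_dvd_card r

theorem k_le_mul_prod [Finite G] {π : Finset ℕ} (hπ : ∀ r ∈ π, r.Prime) {q : ℕ} (hq : q ∈ π) :
    k π G ≤ k ({q} : Finset ℕ) G * (π.erase q).prod fun r => r ^ (Nat.card G).factorization r := by
  refine k_le_mul (hπ q hq) fun H => ?_
  refine (k_le_prod _ (fun r hr => hπ r (Finset.mem_of_mem_erase hr)) H).trans ?_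
  refine Finset.prod_le_prod' fun r hr => Nat.pow_le_pow_right (hπ r (Finset.mem_of_mem_erase hr)).pos ?_
  exact (Nat.factorization_le_iff_dvd Nat.card_pos.ne' Nat.card_pos.ne').2
    H.card_subgroup_dvd_card r

/-- If the Sylow `q`-normalizer does not centralize the Sylow subgroup there are few classes of
`q`-elements. -/
theorem normalizer_le_centralizer_of_lt [Finite G] {q : ℕ} [Fact q.Prime] (P : Sylow q G)
    (h : (q + 1) * Nat.card (P : Subgroup G) < 2 * q * k ({q} : Finset ℕ) G) :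
    Subgroup.normalizer ((P : Subgroup G) : Set G) ≤ Subgroup.centralizer ((P : Subgroup G) : Set G) := by
  classical
  intro n hn
  by_contra hnc
  -- the proper subgroup of `P` fixed by `n`
  set F : Subgroup (P : Subgroup G) := (Subgroup.centralizer ({n} : Set G)).subgroupOf (P : Subgroup G)
    with hF
  have hFtop : F ≠ ⊤ := fun e => hnc (by
    rw [Subgroup.mem_centralizer_iff]
    intro y hy
    have : (⟨y, hy⟩ : (P : Subgroup G)) ∈ F := e ▸ Subgroup.mem_top _
    exact Subgroup.mem_centralizer_singleton_iff.1 (Subgroup.mem_subgroupOf.1 this))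
  have hFcard : q * Nat.card F ≤ Nat.card (P : Subgroup G) := by
    rw [← F.index_mul_card]
    refine Nat.mul_le_mul_right _ ?_
    obtain ⟨e, he⟩ := P.2.index F
    rw [he]
    refine Nat.le_self_pow (fun e0 => hFtop (Subgroup.index_eq_one.1 (by rw [he, e0, pow_zero]))) q
  let C := {c : ConjClasses G // ∀ x ∈ c.carrier, IsPiElt ({q} : Finset ℕ) x}
  haveI := Fintype.ofFinite C
  haveI := Fintype.ofFinite (P : Subgroup G)
  have hmem : ∀ x : (P : Subgroup G), ∀ y ∈ (ConjClasses.mk (x : G)).carrier,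
      IsPiElt ({q} : Finset ℕ) y := by
    intro x y hy
    refine isPiElt_of_isConj
      (ConjClasses.mk_eq_mk_iff_isConj.1 (ConjClasses.mem_carrier_iff_mk_eq.1 hy)).symm ?_
    rw [isPiElt_iff_pow Fact.out]
    obtain ⟨e, he⟩ := IsPGroup.iff_orderOf.1 P.2 x
    exact ⟨e, by rw [← he, Subgroup.orderOf_coe]⟩
  let φ : ↥(P : Subgroup G) → C := fun x => ⟨ConjClasses.mk (x : G), hmem x⟩
  have hφ : Function.Surjective φ := by
    intro c
    obtain ⟨x, hx⟩ := ConjClasses.mk_surjective c.1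
    obtain ⟨e, he⟩ := (isPiElt_iff_pow Fact.out x).1 (c.2 x (by rw [ConjClasses.mem_carrier_iff_mk_eq, hx]))
    obtain ⟨Q, hQ⟩ := (IsPGroup.of_card (p := q) (n := e)
      (by rw [Nat.card_zpowers, he]) : IsPGroup q (Subgroup.zpowers x)).exists_le_sylow
    obtain ⟨g, hg⟩ := MulAction.exists_smul_eq G Q P
    refine ⟨⟨g * x * g⁻¹, ?_⟩, Subtype.ext ?_⟩
    · rw [← hg, Sylow.coe_subgroup_smul]
      exact Subgroup.smul_mem_pointwise_smul x (MulAut.conj g) _ (hQ (Subgroup.mem_zpowers x))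
    · show ConjClasses.mk (g * x * g⁻¹) = c.1
      rw [← hx]
      exact ConjClasses.mk_eq_mk_iff_isConj.2 (isConj_iff.2 ⟨g, rfl⟩).symm
  -- each fibre has two elements or lies in `F`
  have hfib : ∀ c : C, 2 ≤ (Finset.univ.filter fun x => φ x = c).card +
      (Finset.univ.filter fun x => φ x = c ∧ x ∈ F).card := by
    intro c
    obtain ⟨x, hx⟩ := hφ c
    by_cases hxF : x ∈ F
    · have h1 : 1 ≤ (Finset.univ.filter fun y => φ y = c ∧ y ∈ F).card :=
        Finset.card_pos.2 ⟨x, Finset.mem_filter.2 ⟨Finset.mem_univ x, hx, hxF⟩⟩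
      have h2 : 1 ≤ (Finset.univ.filter fun y => φ y = c).card :=
        Finset.card_pos.2 ⟨x, Finset.mem_filter.2 ⟨Finset.mem_univ x, hx⟩⟩
      omega
    · have hy : n * (x : G) * n⁻¹ ∈ (P : Subgroup G) := (Subgroup.mem_normalizer_iff.1 hn _).1 x.2
      have hne : (⟨_, hy⟩ : (P : Subgroup G)) ≠ x := fun e => hxF (by
        rw [hF, Subgroup.mem_subgroupOf, Subgroup.mem_centralizer_singleton_iff]
        exact (mul_inv_eq_iff_eq_mul.1 (congrArg Subtype.val e)).symm)
      have h1 : ({x, ⟨_, hy⟩} : Finset (P : Subgroup G)) ⊆ Finset.univ.filter fun y => φ y = c := by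
        intro y hy'
        refine Finset.mem_filter.2 ⟨Finset.mem_univ y, ?_⟩
        rcases Finset.mem_insert.1 hy' with rfl | hy''
        · exact hx
        · rw [Finset.mem_singleton.1 hy'', ← hx]
          exact Subtype.ext (ConjClasses.mk_eq_mk_iff_isConj.2 (isConj_iff.2 ⟨n, rfl⟩).symm)
      have := Finset.card_le_card h1
      rw [Finset.card_pair hne.symm] at this
      omega
  have htot : 2 * k ({q} : Finset ℕ) G ≤ Nat.card (P : Subgroup G) + Nat.card F := by
    have h1 := Finset.sum_le_sum (s := Finset.univ) fun c (_ : c ∈ Finset.univ) => hfib c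
    rw [Finset.sum_const, smul_eq_mul, Finset.card_univ, Finset.sum_add_distrib] at h1
    have h2 : (Finset.univ : Finset (P : Subgroup G)).card =
        ∑ c : C, (Finset.univ.filter fun x => φ x = c).card :=
      Finset.card_eq_sum_card_fiberwise fun x _ => Finset.mem_univ _
    have h3 : (Finset.univ.filter fun x => x ∈ F).card =
        ∑ c : C, (Finset.univ.filter fun x => φ x = c ∧ x ∈ F).card := by
      rw [Finset.card_eq_sum_card_fiberwise (f := φ) (t := Finset.univ) fun x _ => Finset.mem_univ _]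
      refine Finset.sum_congr rfl fun c _ => ?_
      rw [Finset.filter_filter]
      simp only [and_comm]
    rw [← h2, ← h3, ← Fintype.card_subtype] at h1
    rw [k, Nat.card_eq_fintype_card (α := (P : Subgroup G)), ← Finset.card_univ,
      Nat.card_eq_fintype_card (α := C)]
    show 2 * Fintype.card C ≤ _
    rw [mul_comm, Nat.card_eq_fintype_card (α := F)]
    exact h1
  nlinarith

theorem sylow_commute_of_le_centralizer {q : ℕ} [Fact q.Prime] {P : Sylow q G}
    (h : Subgroup.normalizer ((P : Subgroup G) : Set G) ≤ Subgroup.centralizer ((P : Subgroup G) : Set G)) :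
    IsMulCommutative (P : Subgroup G) :=
  ⟨⟨fun a b => Subtype.ext ((Subgroup.mem_centralizer_iff.1 (h (Subgroup.le_normalizer b.2))) a a.2)⟩⟩

/-- A normal `q`-complement with abelian Sylow subgroups contains the commutator subgroup. -/
theorem commutator_le_of_complement [Finite G] {q : ℕ} [Fact q.Prime] {P₀ : Sylow q G}
    {N : Subgroup G} [N.Normal] (hN : N.IsComplement' (P₀ : Subgroup G)) (P : Sylow q G)
    (hP : IsMulCommutative (P : Subgroup G)) : commutator G ≤ N := by
  rw [← Subgroup.Normal.quotient_commutative_iff_commutator_le]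
  let e : G ⧸ N ≃* (P : Subgroup G) := (hN.symm.QuotientMulEquiv).trans (P₀.equiv P)
  exact ⟨⟨fun a b => e.injective (by rw [map_mul, map_mul, hP.is_comm.comm])⟩⟩

end Cfsg.Agent.PiClasses
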